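/-
Ovoids of a generalized quadrangle of order two, given as a strongly regular graph (15, 6, 1, 3):
there are six, two through each point and one through each pair of non-collinear points.
-/
import Mathlib

set_option autoImplicit false

namespace CfsgLib.Spor.Srg77

open Finset

/-- The axioms of a graph with parameters (15, 6, 1, 3), in counting form. -/
structure Quad (P : Type*) [Fintype P] [DecidableEq P] (R : P → P → Prop) [DecidableRel R] : Prop where
  card : Fintype.card P = 15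
  irrefl : ∀ p, ¬ R p p
  symm : ∀ p q, R p q → R q p
  deg : ∀ p, #{q | R p q} = 6
  lam : ∀ p q, R p q → #{r | R p r ∧ R q r} = 1
  mu : ∀ p q, p ≠ q → ¬ R p q → #{r | R p r ∧ R q r} = 3

variable {P : Type*} [Fintype P] [DecidableEq P] {R : P → P → Prop} [DecidableRel R]

/-- The ovoids: five pairwise non-collinear points. -/
def ovoids (R : P → P → Prop) [DecidableRel R] : Finset (Finset P) :=
  {S | #S = 5 ∧ ∀ a ∈ S, ∀ b ∈ S, ¬ R a b}

theorem mem_ovoids {S : Finset P} : S ∈ ovoids R ↔ #S = 5 ∧ ∀ a ∈ S, ∀ b ∈ S, ¬ R a b := by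
  simp [ovoids]

variable (hQ : Quad P R)
include hQ

theorem Quad.ne {p q : P} (h : R p q) : p ≠ q := fun e => hQ.irrefl q (e ▸ h)

theorem Quad.lam_unique {p q r s : P} (h : R p q) (hr : R p r) (hr' : R q r) (hs : R p s) (hs' : R q s) :
    r = s :=
  card_le_one.1 (hQ.lam p q h).le r (by simp [hr, hr']) s (by simp [hs, hs'])

theorem Quad.exists_third {p q : P} (h : R p q) : ∃ r, R p r ∧ R q r := by
  obtain ⟨r, hr⟩ := card_eq_one.1 (hQ.lam p q h)
  have : r ∈ ({r | R p r ∧ R q r} : Finset P) := hr.symm ▸ mem_singleton_self r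
  exact ⟨r, by simpa using this⟩

/-- The points not collinear with `p` and distinct from it. -/
def farSet (R : P → P → Prop) [DecidableRel R] (p : P) : Finset P := {q | q ≠ p ∧ ¬ R p q}

omit hQ in
theorem mem_farSet {p q : P} : q ∈ farSet R p ↔ q ≠ p ∧ ¬ R p q := by simp [farSet]

theorem Quad.card_farSet (p : P) : #(farSet R p) = 8 := by
  have h : farSet R p = univ \ insert p ({q | R p q} : Finset P) := by
    ext q; simp [farSet]
  rw [h, card_sdiff_of_subset (subset_univ _), card_univ, hQ.card,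
    card_insert_of_notMem (by simp [hQ.irrefl]), hQ.deg]

/-- A point far from `p` has exactly three neighbours far from `p`. -/
theorem Quad.card_far_nbrs {p q : P} (hq : q ∈ farSet R p) : #{r ∈ farSet R p | R q r} = 3 := by
  rw [mem_farSet] at hq
  have h1 := card_filter_add_card_filter_not (s := ({r | R q r} : Finset P)) (fun r => R p r)
  rw [hQ.deg q, filter_filter, filter_filter] at h1
  have h2 : ({r ∈ (univ : Finset P) | R q r ∧ R p r}) = ({r | R p r ∧ R q r} : Finset P) := by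
    ext r; simp [and_comm]
  have h3 : ({r ∈ (univ : Finset P) | R q r ∧ ¬ R p r}) = {r ∈ farSet R p | R q r} := by
    ext r
    simp only [mem_filter, mem_univ, true_and, mem_farSet]
    exact ⟨fun ⟨a, b⟩ => ⟨⟨fun e => hq.2 (hQ.symm _ _ (e ▸ a)), b⟩, a⟩, fun ⟨⟨_, b⟩, a⟩ => ⟨a, b⟩⟩
  rw [h2, h3, hQ.mu p q hq.1.symm hq.2] at h1
  omega

/-- Collinear points far from `p`: their third point is collinear with `p`. -/
theorem Quad.third_near {p q r t : P} (hq : q ∈ farSet R p) (hr : r ∈ farSet R p) (hqr : R q r)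
    (hqt : R q t) (hrt : R r t) : R p t := by
  by_contra hpt
  -- the three neighbours of `q` near `p` have three distinct third points, all far from `p`
  have key : ∀ a, R p a → R q a → ∀ s, R q s → R a s → s ∈ farSet R p := by
    intro a hpa hqa s hqs has
    rw [mem_farSet]
    refine ⟨fun e => (mem_farSet.1 hq).2 (hQ.symm _ _ (e ▸ hqs)), fun hps => ?_⟩
    -- `p, q` are both thirds of the line `a s`
    exact (mem_farSet.1 hq).1 (hQ.lam_unique has (hQ.symm _ _ hqa) (hQ.symm _ _ hqs) (hQ.symm _ _ hpa)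
      (hQ.symm _ _ hps))
  set N : Finset P := {a | R p a ∧ R q a}
  have hN : #N = 3 := hQ.mu p q (mem_farSet.1 hq).1.symm (mem_farSet.1 hq).2
  have hex : ∀ a ∈ N, ∃ s, R q s ∧ R a s := fun a ha => by
    obtain ⟨s, h1, h2⟩ := hQ.exists_third (show R q a by simp [N] at ha; exact ha.2)
    exact ⟨s, h1, h2⟩
  choose f hf1 hf2 using hex
  have himg : N.attach.image (fun a => f a.1 a.2) = {s ∈ farSet R p | R q s} := by
    refine eq_of_subset_of_card_le ?_ ?_
    · intro s hs
      obtain ⟨⟨a, ha⟩, -, rfl⟩ := mem_image.1 hs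
      have ha' : R p a ∧ R q a := by simpa [N] using ha
      exact mem_filter.2 ⟨key a ha'.1 ha'.2 _ (hf1 a ha) (hf2 a ha), hf1 a ha⟩
    · rw [hQ.card_far_nbrs hq, card_image_of_injective, card_attach, hN]
      rintro ⟨a, ha⟩ ⟨b, hb⟩ e
      have ha' : R p a ∧ R q a := by simpa [N] using ha
      have hb' : R p b ∧ R q b := by simpa [N] using hb
      simp only at e
      refine Subtype.ext (hQ.lam_unique (hf1 a ha) ha'.2 (hQ.symm _ _ (hf2 a ha)) hb'.2 ?_)
      rw [e]; exact hQ.symm _ _ (hf2 b hb)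
  have hmem : r ∈ N.attach.image (fun a => f a.1 a.2) := by
    rw [himg]; exact mem_filter.2 ⟨hr, hqr⟩
  obtain ⟨⟨a, ha⟩, -, rfl⟩ := mem_image.1 hmem
  have ha' : R p a ∧ R q a := by simpa [N] using ha
  exact hpt (hQ.lam_unique hqr ha'.2 (hQ.symm _ _ (hf2 a ha)) hqt hrt ▸ ha'.1)

/-- The part of the neighbourhood of `q` collinear with `p`. -/
def trace (R : P → P → Prop) [DecidableRel R] (p q : P) : Finset P := {a | R p a ∧ R q a}

omit hQ [DecidableEq P] in
theorem mem_trace {p q a : P} : a ∈ trace R p q ↔ R p a ∧ R q a := by simp [trace]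

theorem Quad.card_trace {p q : P} (hq : q ∈ farSet R p) : #(trace R p q) = 3 :=
  hQ.mu p q (mem_farSet.1 hq).1.symm (mem_farSet.1 hq).2

/-- Two neighbours of `q` far from `p` have exactly one common neighbour collinear with `p`. -/
theorem Quad.trace_inter {p q u v : P} (hq : q ∈ farSet R p) (hu : u ∈ farSet R p) (hv : v ∈ farSet R p)
    (hqu : R q u) (hqv : R q v) (huv : u ≠ v) : #(trace R p u ∩ trace R p v) = 1 := by
  set six : Finset P := {a | R p a} with hsix
  have h6 : #six = 6 := hQ.deg p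
  set Q := trace R p q
  have hQ6 : Q ⊆ six := fun a ha => by simpa [hsix] using (mem_trace.1 ha).1
  set O := six \ Q
  have hO : #O = 3 := by
    rw [card_sdiff_of_subset hQ6, h6, hQ.card_trace hq]
  -- for each neighbour `n` of `q`: the common point `a`, and its mate `m`
  have key : ∀ n, n ∈ farSet R p → R q n → ∃ a m, R q a ∧ R n a ∧ R p a ∧ R a m ∧ R p m ∧ m ∈ O ∧
      trace R p n = insert a (O.erase m) := by
    intro n hn hqn
    obtain ⟨a, hqa, hna⟩ := hQ.exists_third hqn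
    have hpa := hQ.third_near hq hn hqn hqa hna
    obtain ⟨m, hpm, ham⟩ := hQ.exists_third hpa
    have hm : ∀ x, x ∈ farSet R p → R x a → ¬ R x m := fun x hx hxa hxm => (mem_farSet.1 hx).1
      (hQ.lam_unique ham (hQ.symm _ _ hxa) (hQ.symm _ _ hxm) (hQ.symm _ _ hpa) (hQ.symm _ _ hpm))
    have hmO : m ∈ O := mem_sdiff.2 ⟨by simpa [hsix] using hpm, fun h => hm q hq hqa (mem_trace.1 h).2⟩
    refine ⟨a, m, hqa, hna, hpa, ham, hpm, hmO, eq_of_subset_of_card_le ?_ ?_⟩
    · intro x hx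
      obtain ⟨hpx, hnx⟩ := mem_trace.1 hx
      rw [mem_insert, mem_erase]
      by_cases hqx : R q x
      · exact Or.inl (hQ.lam_unique hqn hqx hnx hqa hna)
      · exact Or.inr ⟨fun e => hm n hn hna (e ▸ hnx),
          mem_sdiff.2 ⟨by simpa [hsix] using hpx, fun h => hqx (mem_trace.1 h).2⟩⟩
    · rw [hQ.card_trace hn, card_insert_of_notMem, card_erase_of_mem hmO, hO]
      intro h
      exact (mem_sdiff.1 (mem_erase.1 h).2).2 (mem_trace.2 ⟨hpa, hqa⟩)
  obtain ⟨a, m, hqa, hua, hpa, ham, hpm, hmO, hu'⟩ := key u hu hqu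
  obtain ⟨b, l, hqb, hvb, hpb, hbl, hpl, hlO, hv'⟩ := key v hv hqv
  have hab : a ≠ b := fun e => huv (hQ.lam_unique hqa hqu (hQ.symm _ _ hua) hqv
    (e ▸ hQ.symm _ _ hvb))
  have hml : m ≠ l := fun e => hab (hQ.lam_unique hpm hpa (hQ.symm _ _ ham) hpb
    (e ▸ hQ.symm _ _ hbl))
  have heq : trace R p u ∩ trace R p v = (O.erase m).erase l := by
    have haO : a ∉ O := fun h => (mem_sdiff.1 h).2 (mem_trace.2 ⟨hpa, hqa⟩)
    have hbO : b ∉ O := fun h => (mem_sdiff.1 h).2 (mem_trace.2 ⟨hpb, hqb⟩)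
    rw [hu', hv']
    ext x
    simp only [mem_inter, mem_insert, mem_erase]
    constructor
    · rintro ⟨rfl | ⟨h1, h2⟩, rfl | ⟨h3, h4⟩⟩
      · exact absurd rfl hab
      · exact absurd h4 haO
      · exact absurd h2 hbO
      · exact ⟨h3, h1, h2⟩
    · rintro ⟨h3, h1, h2⟩
      exact ⟨Or.inr ⟨h1, h2⟩, Or.inr ⟨h3, h2⟩⟩
  rw [heq, card_erase_of_mem (mem_erase.2 ⟨hml.symm, hlO⟩), card_erase_of_mem hmO, hO]

/-- Two neighbours of `q` far from `p` have exactly two common neighbours far from `p`. -/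
theorem Quad.far_common {p q u v : P} (hq : q ∈ farSet R p) (hu : u ∈ farSet R p) (hv : v ∈ farSet R p)
    (hqu : R q u) (hqv : R q v) (huv : u ≠ v) : #{s ∈ farSet R p | R u s ∧ R v s} = 2 := by
  have hnuv : ¬ R u v := fun h => (mem_farSet.1 hv).2 (hQ.third_near hq hu hqu hqv h)
  have hp : ¬ R u p := fun h => (mem_farSet.1 hu).2 (hQ.symm _ _ h)
  have h1 := card_filter_add_card_filter_not (s := ({s | R u s ∧ R v s} : Finset P)) (fun s => R p s)
  rw [hQ.mu u v huv hnuv, filter_filter, filter_filter] at h1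
  have h2 : ({s ∈ (univ : Finset P) | (R u s ∧ R v s) ∧ R p s}) = trace R p u ∩ trace R p v := by
    ext s
    simp only [mem_filter, mem_univ, true_and, mem_inter, mem_trace]
    tauto
  have h3 : ({s ∈ (univ : Finset P) | (R u s ∧ R v s) ∧ ¬ R p s}) =
      ({s ∈ farSet R p | R u s ∧ R v s} : Finset P) := by
    ext s
    simp only [mem_filter, mem_univ, true_and, mem_farSet]
    exact ⟨fun ⟨a, b⟩ => ⟨⟨fun e => hp (e ▸ a.1), b⟩, a⟩, fun ⟨⟨_, b⟩, a⟩ => ⟨a, b⟩⟩
  rw [h2, h3, hQ.trace_inter hq hu hv hqu hqv huv] at h1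
  omega

/-- Each point far from `p` lies in a four-point co-clique of far points, which is the only one. -/
theorem Quad.far_coclique {p q : P} (hq : q ∈ farSet R p) :
    ∃! S : Finset P, S ⊆ farSet R p ∧ #S = 4 ∧ (∀ a ∈ S, ∀ b ∈ S, ¬ R a b) ∧ q ∈ S := by
  set E := farSet R p
  set N : Finset P := {u ∈ E | R q u}
  have hN : #N = 3 := hQ.card_far_nbrs hq
  have memN : ∀ {u}, u ∈ N ↔ u ∈ E ∧ R q u := by simp [N]
  set F : Finset P := (E.erase q) \ N with hF
  have memF : ∀ {s}, s ∈ F ↔ s ∈ E ∧ s ≠ q ∧ ¬ R q s := by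
    intro s; simp [hF, memN]; tauto
  have hF4 : #F = 4 := by
    rw [hF, card_sdiff_of_subset, card_erase_of_mem hq, hQ.card_farSet p, hN]
    intro u hu
    exact mem_erase.2 ⟨fun e => hQ.irrefl q (e ▸ (memN.1 hu).2), (memN.1 hu).1⟩
  have tri : ∀ a ∈ E, ∀ b ∈ E, ∀ c ∈ E, R a b → R a c → ¬ R b c := fun a ha b hb c hc hab hac hbc =>
    (mem_farSet.1 hc).2 (hQ.third_near ha hb hab hac hbc)
  have hNN : ∀ u ∈ N, ∀ v ∈ N, ¬ R u v := fun u hu v hv =>
    tri q hq u (memN.1 hu).1 v (memN.1 hv).1 (memN.1 hu).2 (memN.1 hv).2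
  -- a pair of neighbours of `q` has exactly one common neighbour in `F`
  have pair : ∀ u ∈ N, ∀ v ∈ N, u ≠ v → #{s ∈ F | R u s ∧ R v s} = 1 := by
    intro u hu v hv huv
    have h := hQ.far_common hq (memN.1 hu).1 (memN.1 hv).1 (memN.1 hu).2 (memN.1 hv).2 huv
    have e : ({s ∈ F | R u s ∧ R v s} : Finset P) = {s ∈ E | R u s ∧ R v s}.erase q := by
      ext s
      simp only [mem_filter, mem_erase, memF]
      refine ⟨fun ⟨⟨a, b, _⟩, c⟩ => ⟨b, a, c⟩, fun ⟨b, a, c⟩ => ⟨⟨a, b, fun hqs => ?_⟩, c⟩⟩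
      exact tri q hq u (memN.1 hu).1 s a (memN.1 hu).2 hqs c.1
    have hm : q ∈ ({s ∈ E | R u s ∧ R v s} : Finset P) :=
      mem_filter.2 ⟨hq, hQ.symm _ _ (memN.1 hu).2, hQ.symm _ _ (memN.1 hv).2⟩
    rw [e, card_erase_of_mem hm, h]
  let d : P → ℕ := fun s => #{u ∈ N | R u s}
  have hd3 : ∀ s, d s ≤ 3 := fun s => hN ▸ card_filter_le _ _
  have hFdeg : ∀ s ∈ F, #{t ∈ F | R s t} + d s = 3 := by
    intro s hs
    have h := hQ.card_far_nbrs (memF.1 hs).1
    rw [← h, ← card_union_of_disjoint]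
    · congr 1
      ext t
      simp only [mem_union, mem_filter, memF, memN]
      constructor
      · rintro (⟨⟨a, -, -⟩, b⟩ | ⟨⟨a, -⟩, b⟩)
        · exact ⟨a, b⟩
        · exact ⟨a, hQ.symm _ _ b⟩
      · rintro ⟨a, b⟩
        by_cases hqt : R q t
        · exact Or.inr ⟨⟨a, hqt⟩, hQ.symm _ _ b⟩
        · exact Or.inl ⟨⟨a, fun e => (memF.1 hs).2.2 (hQ.symm _ _ (e ▸ b)), hqt⟩, b⟩
    · rw [disjoint_left]
      intro t ht ht'
      exact (memF.1 (mem_filter.1 ht).1).2.2 (memN.1 (mem_filter.1 ht').1).2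
  have hmap : ∀ u ∈ N, #{s ∈ F | R u s} = 2 := by
    intro u hu
    have h' := hQ.card_far_nbrs (memN.1 hu).1
    have e : ({t ∈ E | R u t} : Finset P) = insert q {s ∈ F | R u s} := by
      ext t
      simp only [mem_filter, mem_insert, memF]
      refine ⟨fun ⟨a, b⟩ => ?_, ?_⟩
      · by_cases htq : t = q
        · exact Or.inl htq
        · exact Or.inr ⟨⟨a, htq, fun c => tri q hq u (memN.1 hu).1 t a (memN.1 hu).2 c b⟩, b⟩
      · rintro (rfl | ⟨⟨a, -, -⟩, b⟩)
        · exact ⟨hq, hQ.symm _ _ (memN.1 hu).2⟩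
        · exact ⟨a, b⟩
    rw [e, card_insert_of_notMem (by simp [memF])] at h'
    exact Nat.succ_injective h'
  have hsum : ∑ s ∈ F, d s = 6 := by
    have h : ∑ s ∈ F, d s = ∑ u ∈ N, #{s ∈ F | R u s} := by
      simp only [d, card_filter]
      exact sum_comm
    rw [h, sum_congr rfl hmap, sum_const, hN]
    rfl
  -- no point of `F` sees all of `N`
  have hd2 : ∀ s ∈ F, d s ≤ 2 := by
    intro s0 hs0
    by_contra hcon
    have hd0 : d s0 = 3 := le_antisymm (hd3 s0) (by omega)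
    have hall : ∀ u ∈ N, R u s0 := by
      have he : ({u ∈ N | R u s0} : Finset P) = N :=
        eq_of_subset_of_card_le (filter_subset _ _) (by show #N ≤ d s0; omega)
      intro u hu
      exact (mem_filter.1 (he.symm ▸ hu : u ∈ ({u ∈ N | R u s0} : Finset P))).2
    have hle : ∀ t ∈ F.erase s0, d t ≤ 1 := by
      intro t ht
      refine card_le_one.2 fun u hu v hv => ?_
      obtain ⟨hu, hu'⟩ := mem_filter.1 hu
      obtain ⟨hv, hv'⟩ := mem_filter.1 hv
      by_contra huv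
      exact (mem_erase.1 ht).1 (card_le_one.1 (pair u hu v hv huv).le t
        (mem_filter.2 ⟨(mem_erase.1 ht).2, hu', hv'⟩) s0 (mem_filter.2 ⟨hs0, hall u hu, hall v hv⟩))
    have h3 : #(F.erase s0) = 3 := by rw [card_erase_of_mem hs0, hF4]
    have hs0deg := hFdeg s0 hs0
    have hno : ∀ t ∈ F, ¬ R s0 t := by
      intro t ht h
      have : 0 < #({t ∈ F | R s0 t} : Finset P) := card_pos.2 ⟨t, mem_filter.2 ⟨ht, h⟩⟩
      omega
    have hfull : ∀ t ∈ F.erase s0, ∀ t' ∈ F.erase s0, t ≠ t' → R t t' := by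
      intro t ht t' ht' hne
      by_contra hn
      have hsub : ({x ∈ F | R t x} : Finset P) ⊆ ((F.erase s0).erase t).erase t' := by
        intro x hx
        obtain ⟨hx, hx'⟩ := mem_filter.1 hx
        refine mem_erase.2 ⟨fun e => hn (e ▸ hx'), mem_erase.2 ⟨fun e => hQ.irrefl t (e ▸ hx'),
          mem_erase.2 ⟨fun e => hno t (mem_erase.1 ht).2 (hQ.symm _ _ (e ▸ hx')), hx⟩⟩⟩
      have := card_le_card hsub
      rw [card_erase_of_mem (mem_erase.2 ⟨hne.symm, ht'⟩), card_erase_of_mem ht, h3] at this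
      have := hFdeg t (mem_erase.1 ht).2
      have := hle t ht
      omega
    obtain ⟨a, b, c, hab, hac, hbc, habc⟩ := card_eq_three.1 h3
    have ha : a ∈ F.erase s0 := by simp [habc]
    have hb : b ∈ F.erase s0 := by simp [habc]
    have hc : c ∈ F.erase s0 := by simp [habc]
    exact tri a (memF.1 (mem_erase.1 ha).2).1 b (memF.1 (mem_erase.1 hb).2).1 c (memF.1 (mem_erase.1 hc).2).1
      (hfull a ha b hb hab) (hfull a ha c hc hac) (hfull b hb c hc hbc)
  -- three points of `F` see two neighbours each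
  set O : Finset P := {s ∈ F | d s = 2}
  have hO : #O = 3 := by
    obtain ⟨a, b, c, hab, hac, hbc, habc⟩ := card_eq_three.1 hN
    have ha : a ∈ N := by simp [habc]
    have hb : b ∈ N := by simp [habc]
    have hc : c ∈ N := by simp [habc]
    obtain ⟨x, hx⟩ := card_eq_one.1 (pair a ha b hb hab)
    obtain ⟨y, hy⟩ := card_eq_one.1 (pair a ha c hc hac)
    obtain ⟨z, hz⟩ := card_eq_one.1 (pair b hb c hc hbc)
    have hx' : x ∈ F ∧ R a x ∧ R b x := by
      simpa using (hx.symm ▸ mem_singleton_self x : x ∈ ({s ∈ F | R a s ∧ R b s} : Finset P))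
    have hy' : y ∈ F ∧ R a y ∧ R c y := by
      simpa using (hy.symm ▸ mem_singleton_self y : y ∈ ({s ∈ F | R a s ∧ R c s} : Finset P))
    have hz' : z ∈ F ∧ R b z ∧ R c z := by
      simpa using (hz.symm ▸ mem_singleton_self z : z ∈ ({s ∈ F | R b s ∧ R c s} : Finset P))
    have three : ∀ s ∈ F, R a s → R b s → R c s → False := fun s hs h1 h2 h3 => by
      have hall : ({u ∈ N | R u s} : Finset P) = N := filter_true_of_mem fun u hu => by
        rw [habc] at hu; simp at hu; rcases hu with rfl | rfl | rfl <;> assumption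
      have : d s = #N := congrArg Finset.card hall
      have := hd2 s hs
      omega
    have two : ∀ s ∈ F, ∀ u ∈ N, ∀ v ∈ N, u ≠ v → R u s → R v s → s ∈ O := fun s hs u hu v hv huv h1 h2 =>
      mem_filter.2 ⟨hs, le_antisymm (hd2 s hs) ((card_pair huv).symm.le.trans (card_le_card fun w hw => by
        rw [mem_insert, mem_singleton] at hw
        rcases hw with rfl | rfl
        exacts [mem_filter.2 ⟨hu, h1⟩, mem_filter.2 ⟨hv, h2⟩]))⟩
    have hxy : x ≠ y := fun e => three x hx'.1 hx'.2.1 hx'.2.2 (e ▸ hy'.2.2)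
    have hxz : x ≠ z := fun e => three x hx'.1 hx'.2.1 hx'.2.2 (e ▸ hz'.2.2)
    have hyz : y ≠ z := fun e => three y hy'.1 hy'.2.1 (e ▸ hz'.2.1) hy'.2.2
    have hge : 3 ≤ #O := by
      rw [← show #({x, y, z} : Finset P) = 3 from card_eq_three.2 ⟨x, y, z, hxy, hxz, hyz, rfl⟩]
      refine card_le_card ?_
      intro w hw
      simp at hw
      rcases hw with rfl | rfl | rfl
      exacts [two _ hx'.1 a ha b hb hab hx'.2.1 hx'.2.2, two _ hy'.1 a ha c hc hac hy'.2.1 hy'.2.2,
        two _ hz'.1 b hb c hc hbc hz'.2.1 hz'.2.2]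
    have hle := sum_le_sum_of_subset (filter_subset (fun s => d s = 2) F) (f := d)
    rw [sum_congr rfl (fun s (hs : s ∈ O) => (mem_filter.1 hs).2), sum_const, hsum, smul_eq_mul] at hle
    omega
  obtain ⟨r, hrF⟩ := card_eq_one.1 (show #(F \ O) = 1 by
    rw [card_sdiff_of_subset (filter_subset _ _), hF4, hO])
  have hr : r ∈ F ∧ r ∉ O := mem_sdiff.1 (hrF.symm ▸ mem_singleton_self r)
  have hdr : d r = 0 := by
    have h := sum_sdiff (s₁ := O) (s₂ := F) (filter_subset _ _) (f := d)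
    rw [hrF, sum_singleton, sum_congr rfl (fun s (hs : s ∈ O) => (mem_filter.1 hs).2), sum_const, hO,
      hsum, smul_eq_mul] at h
    omega
  have hOr : ∀ o ∈ O, R r o := by
    have e : ({t ∈ F | R r t} : Finset P) = O := by
      refine eq_of_subset_of_card_le (fun t ht => ?_) (by have := hFdeg r hr.1; omega)
      obtain ⟨ht, ht'⟩ := mem_filter.1 ht
      by_contra hn
      have : t ∈ F \ O := mem_sdiff.2 ⟨ht, hn⟩
      rw [hrF, mem_singleton] at this
      exact hQ.irrefl r (this ▸ ht')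
    intro o ho
    exact (mem_filter.1 (e.symm ▸ ho : o ∈ ({t ∈ F | R r t} : Finset P))).2
  have hOO : ∀ o ∈ O, ∀ o' ∈ O, ¬ R o o' := fun o ho o' ho' =>
    tri r (memF.1 hr.1).1 o (memF.1 (mem_filter.1 ho).1).1 o' (memF.1 (mem_filter.1 ho').1).1
      (hOr o ho) (hOr o' ho')
  refine ⟨insert q O, ⟨?_, ?_, ?_, mem_insert_self _ _⟩, ?_⟩
  · exact insert_subset hq fun o ho => (memF.1 (mem_filter.1 ho).1).1
  · rw [card_insert_of_notMem (fun h => (memF.1 (mem_filter.1 h).1).2.1 rfl), hO]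
  · intro a ha b hb
    rw [mem_insert] at ha hb
    rcases ha with rfl | ha <;> rcases hb with rfl | hb
    · exact hQ.irrefl _
    · exact (memF.1 (mem_filter.1 hb).1).2.2
    · exact fun h => (memF.1 (mem_filter.1 ha).1).2.2 (hQ.symm _ _ h)
    · exact hOO a ha b hb
  · rintro S ⟨hS, hS4, hSi, hqS⟩
    have hsub : S.erase q ⊆ F := fun s hs =>
      memF.2 ⟨hS (mem_erase.1 hs).2, (mem_erase.1 hs).1, hSi q hqS s (mem_erase.1 hs).2⟩
    have hrS : r ∉ S := by
      intro h
      have hsub' : S ⊆ {q, r} := by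
        intro s hs
        by_cases hsq : s = q
        · simp [hsq]
        by_cases hso : s ∈ O
        · exact absurd (hOr s hso) (hSi r h s hs)
        · have : s ∈ F \ O := mem_sdiff.2 ⟨hsub (mem_erase.2 ⟨hsq, hs⟩), hso⟩
          rw [hrF, mem_singleton] at this
          simp [this]
      have h' := (card_le_card hsub').trans card_le_two
      omega
    refine eq_of_subset_of_card_le (fun s hs => ?_) ?_
    · by_cases hsq : s = q
      · simp [hsq]
      refine mem_insert_of_mem ?_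
      by_contra hso
      have : s ∈ F \ O := mem_sdiff.2 ⟨hsub (mem_erase.2 ⟨hsq, hs⟩), hso⟩
      rw [hrF, mem_singleton] at this
      exact hrS (this ▸ hs)
    · rw [hS4, card_insert_of_notMem (fun h => (memF.1 (mem_filter.1 h).1).2.1 rfl), hO]

omit hQ in
/-- An ovoid through `p` is `p` with a four-point co-clique of far points. -/
theorem ovoid_erase {p : P} {S : Finset P} (hS : S ∈ ovoids R) (hp : p ∈ S) :
    S.erase p ⊆ farSet R p ∧ #(S.erase p) = 4 ∧ ∀ a ∈ S.erase p, ∀ b ∈ S.erase p, ¬ R a b := by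
  rw [mem_ovoids] at hS
  exact ⟨fun a ha => mem_farSet.2 ⟨(mem_erase.1 ha).1, hS.2 p hp a (mem_erase.1 ha).2⟩,
    by rw [card_erase_of_mem hp, hS.1],
    fun a ha b hb => hS.2 a (mem_erase.1 ha).2 b (mem_erase.1 hb).2⟩

/-- Exactly one ovoid passes through two non-collinear points. -/
theorem Quad.ovoid_pair {p q : P} (hpq : p ≠ q) (hR : ¬ R p q) :
    ∃! S, S ∈ ovoids R ∧ p ∈ S ∧ q ∈ S := by
  have hq : q ∈ farSet R p := mem_farSet.2 ⟨hpq.symm, hR⟩
  obtain ⟨T, ⟨hT, hT4, hTi, hqT⟩, huniq⟩ := hQ.far_coclique hq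
  have hpT : p ∉ T := fun h => (mem_farSet.1 (hT h)).1 rfl
  refine ⟨insert p T, ⟨mem_ovoids.2 ⟨by rw [card_insert_of_notMem hpT, hT4], ?_⟩, mem_insert_self _ _,
    mem_insert_of_mem hqT⟩, ?_⟩
  · intro a ha b hb
    rw [mem_insert] at ha hb
    rcases ha with rfl | ha <;> rcases hb with rfl | hb
    · exact hQ.irrefl _
    · exact (mem_farSet.1 (hT hb)).2
    · exact fun h => (mem_farSet.1 (hT ha)).2 (hQ.symm _ _ h)
    · exact hTi a ha b hb
  · rintro S ⟨hS, hpS, hqS⟩
    obtain ⟨h1, h2, h3⟩ := ovoid_erase hS hpS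
    rw [← huniq _ ⟨h1, h2, h3, mem_erase.2 ⟨hpq.symm, hqS⟩⟩, insert_erase hpS]

/-- Exactly two ovoids pass through each point. -/
theorem Quad.ovoid_point (p : P) : #{S ∈ ovoids R | p ∈ S} = 2 := by
  have h := sum_card_bipartiteAbove_eq_sum_card_bipartiteBelow
    (s := ({S ∈ ovoids R | p ∈ S} : Finset (Finset P))) (t := farSet R p) (fun S q => q ∈ S)
  have h1 : ∀ S ∈ ({S ∈ ovoids R | p ∈ S} : Finset (Finset P)),
      #((farSet R p).bipartiteAbove (fun S q => q ∈ S) S) = 4 := by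
    intro S hS
    obtain ⟨hS, hp⟩ := mem_filter.1 hS
    obtain ⟨h1, h2, -⟩ := ovoid_erase hS hp
    rw [← h2]
    congr 1
    ext q
    simp only [bipartiteAbove, mem_filter, mem_erase]
    exact ⟨fun ⟨a, b⟩ => ⟨(mem_farSet.1 a).1, b⟩, fun ⟨a, b⟩ => ⟨h1 (mem_erase.2 ⟨a, b⟩), b⟩⟩
  have h2 : ∀ q ∈ farSet R p,
      #(({S ∈ ovoids R | p ∈ S} : Finset (Finset P)).bipartiteBelow (fun S q => q ∈ S) q) = 1 := by
    intro q hq
    obtain ⟨S, ⟨hS, hp, hq'⟩, huniq⟩ := hQ.ovoid_pair (mem_farSet.1 hq).1.symm (mem_farSet.1 hq).2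
    refine card_eq_one.2 ⟨S, eq_singleton_iff_unique_mem.2 ⟨?_, fun T hT => ?_⟩⟩
    · simp [bipartiteBelow, hS, hp, hq']
    · simp only [bipartiteBelow, mem_filter] at hT
      exact huniq T ⟨hT.1.1, hT.1.2, hT.2⟩
  rw [sum_congr rfl h1, sum_congr rfl h2, sum_const, sum_const, hQ.card_farSet p] at h
  simp only [smul_eq_mul] at h
  omega

/-- There are six ovoids. -/
theorem Quad.card_ovoids : #(ovoids R) = 6 := by
  have h := sum_card_bipartiteAbove_eq_sum_card_bipartiteBelow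
    (s := ovoids R) (t := (univ : Finset P)) (fun S q => q ∈ S)
  rw [sum_congr rfl (fun S hS => show #((univ : Finset P).bipartiteAbove (fun S q => q ∈ S) S) = 5 by
      rw [← (mem_ovoids.1 hS).1]; congr 1; ext q; simp [bipartiteAbove]),
    sum_congr rfl (fun q _ => show #((ovoids R).bipartiteBelow (fun S q => q ∈ S) q) = 2 from hQ.ovoid_point q),
    sum_const, sum_const, card_univ, hQ.card] at h
  simp only [smul_eq_mul] at h
  omega

end CfsgLib.Spor.Srg77
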