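/-
A strongly regular graph with parameters (77, 16, 0, 4) is the block graph of an S(3,6,22): the points are
the co-cliques of 21 vertices.  The co-cliques through a vertex `x` correspond to the ovoids of a quadrangle
of order two whose points are the fifteen classes of four vertices non-adjacent to `x`; the classes are
found with the positive semidefinite form `22 - 11 A + 2 J`.
-/
import Cfsg.Agent.Lib.Spor.Srg77.Ovoid

set_option autoImplicit false

namespace CfsgLib.Spor.Srg77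

open Finset

variable {V : Type*} [Fintype V] [DecidableEq V] {G : SimpleGraph V} [DecidableRel G.Adj]

local notation "Γ" => G.neighborFinset

omit [DecidableEq V] in
theorem mem_nb {v w : V} : w ∈ Γ v ↔ G.Adj v w := G.mem_neighborFinset v w

variable (hG : G.IsSRGWith 77 16 0 4)
include hG

omit [DecidableEq V] in
theorem card_nb (v : V) : #(Γ v) = 16 := by
  rw [G.card_neighborFinset_eq_degree]; exact hG.regular v

theorem common (u w : V) :
    (#(Γ u ∩ Γ w) : ℤ) = 12 * (if u = w then 1 else 0) + 4 - 4 * (if G.Adj u w then 1 else 0) := by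
  have hc : ∀ x y : V, Fintype.card (G.commonNeighbors x y) = #(Γ x ∩ Γ y) := by
    intro x y
    rw [← Set.toFinset_card]
    congr 1
    ext v
    simp [SimpleGraph.mem_commonNeighbors]
  by_cases h : u = w
  · subst h; simp [card_nb hG]
  · by_cases ha : G.Adj u w
    · rw [← hc, hG.of_adj u w ha]; simp [h, ha]
    · rw [← hc, hG.of_not_adj h ha]; simp [h, ha]

theorem common_adj {u w : V} (h : G.Adj u w) : #(Γ u ∩ Γ w) = 0 := by
  have := common hG u w
  simp [h, h.ne] at this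
  simp [this]

theorem common_non {u w : V} (hne : u ≠ w) (h : ¬ G.Adj u w) : #(Γ u ∩ Γ w) = 4 := by
  have := common hG u w
  simp [h, hne] at this
  omega

theorem no_tri {u v w : V} (h1 : G.Adj u v) (h2 : G.Adj u w) : ¬ G.Adj v w := fun h => by
  have h' := common_adj hG h
  rw [card_eq_zero] at h'
  exact eq_empty_iff_forall_notMem.1 h' u (mem_inter.2 ⟨mem_nb.2 h1.symm, mem_nb.2 h2.symm⟩)

omit hG

/-- The indicator of a set. -/
def ind (S : Finset V) (v : V) : ℤ := if v ∈ S then 1 else 0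

/-- The adjacency operator. -/
def adjOp (G : SimpleGraph V) [DecidableRel G.Adj] (f : V → ℤ) (v : V) : ℤ := ∑ u ∈ G.neighborFinset v, f u

theorem sum_ind_mul (S : Finset V) (g : V → ℤ) : ∑ v, ind S v * g v = ∑ v ∈ S, g v := by
  rw [← sum_subset (subset_univ S) fun v _ h => by simp [ind, h]]
  exact sum_congr rfl fun v hv => by simp [ind, hv]

theorem sum_ind (S : Finset V) : ∑ v, ind S v = #S := by
  have := sum_ind_mul S 1
  simpa using this

theorem adjOp_ind (S : Finset V) (v : V) : adjOp G (ind S) v = #(Γ v ∩ S) := by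
  simp only [adjOp, ind]
  rw [sum_ite_mem]
  simp

/-- The quadratic form. -/
def form (G : SimpleGraph V) [DecidableRel G.Adj] (f : V → ℤ) : ℤ :=
  22 * ∑ v, f v * f v - 11 * ∑ v, f v * adjOp G f v + 2 * (∑ v, f v) ^ 2

include hG

theorem sum_adjOp (f : V → ℤ) : ∑ v, adjOp G f v = 16 * ∑ v, f v := by
  have h : ∀ v, adjOp G f v = ∑ u, if G.Adj v u then f u else 0 := fun v => by
    rw [adjOp, ← sum_filter]
    congr 1
    ext u; simp
  simp only [h]
  rw [sum_comm, mul_sum]
  refine sum_congr rfl fun u _ => ?_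
  rw [← sum_filter, sum_const, nsmul_eq_mul]
  congr 1
  have hu : ({v | G.Adj v u} : Finset V) = Γ u := by ext v; simp [G.adj_comm]
  rw [hu, card_nb hG]
  norm_num

theorem sum_adjOp_sq (f : V → ℤ) :
    ∑ v, adjOp G f v ^ 2 = 12 * ∑ v, f v * f v + 4 * (∑ v, f v) ^ 2 - 4 * ∑ v, f v * adjOp G f v := by
  have h1 : ∀ v, adjOp G f v ^ 2 = ∑ u, ∑ w, if v ∈ Γ u ∩ Γ w then f u * f w else 0 := by
    intro v
    have h : adjOp G f v = ∑ u, if v ∈ Γ u then f u else 0 := by
      rw [adjOp, ← sum_filter]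
      congr 1
      ext u; simp [G.adj_comm]
    rw [h, sq, sum_mul_sum]
    refine sum_congr rfl fun u _ => sum_congr rfl fun w _ => ?_
    by_cases a : v ∈ Γ u <;> by_cases b : v ∈ Γ w <;> simp [a, b]
  simp only [h1]
  rw [sum_comm]
  have h2 : ∀ u, ∑ v : V, ∑ w, (if v ∈ Γ u ∩ Γ w then f u * f w else 0) =
      12 * (f u * f u) + 4 * (f u * ∑ w, f w) - 4 * (f u * adjOp G f u) := by
    intro u
    rw [sum_comm]
    have : ∀ w, ∑ v : V, (if v ∈ Γ u ∩ Γ w then f u * f w else 0) =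
        12 * (if u = w then f u * f w else 0) + 4 * (f u * f w) - 4 * (if G.Adj u w then f u * f w else 0) := by
      intro w
      rw [sum_ite_mem, univ_inter, sum_const, nsmul_eq_mul, common hG u w]
      split_ifs <;> ring
    simp only [this, sum_sub_distrib, sum_add_distrib, ← mul_sum, sum_ite_eq, mem_univ, if_true]
    congr 1
    congr 1
    rw [adjOp, mul_sum, ← sum_filter]
    congr 1
    ext w; simp
  simp only [h2, sum_sub_distrib, sum_add_distrib, ← mul_sum, ← sum_mul, sq]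

theorem key_identity (f : V → ℤ) :
    ∑ v, (22 * f v - 11 * adjOp G f v + 2 * ∑ u, f u) ^ 2 = 88 * form G f := by
  set S := ∑ u, f u
  have : ∀ v, (22 * f v - 11 * adjOp G f v + 2 * S) ^ 2 =
      484 * (f v * f v) + 121 * adjOp G f v ^ 2 + 4 * S ^ 2 - 484 * (f v * adjOp G f v) + 88 * S * f v
        - 44 * S * adjOp G f v := fun v => by ring
  simp only [this, sum_sub_distrib, sum_add_distrib, ← mul_sum, sum_adjOp_sq hG, sum_adjOp hG, sum_const,
    card_univ, hG.card, form, nsmul_eq_mul]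
  push_cast
  ring

theorem form_nonneg (f : V → ℤ) : 0 ≤ form G f := by
  have h := key_identity hG f
  have : (0 : ℤ) ≤ 88 * form G f := h ▸ sum_nonneg fun v _ => sq_nonneg _
  linarith

theorem form_zero {f : V → ℤ} (h : form G f = 0) (v : V) :
    22 * f v - 11 * adjOp G f v + 2 * ∑ u, f u = 0 := by
  have h' := key_identity hG f
  rw [h, mul_zero, sum_eq_zero_iff_of_nonneg fun v _ => sq_nonneg _] at h'
  exact pow_eq_zero_iff (two_ne_zero) |>.1 (h' v (mem_univ v))

omit hG

/-- The block of `y` seen from `x`. -/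
def blkN (G : SimpleGraph V) [DecidableRel G.Adj] (x y : V) : Finset V :=
  G.neighborFinset x ∩ G.neighborFinset y

/-- The number of common neighbours of three vertices. -/
def iN (G : SimpleGraph V) [DecidableRel G.Adj] (x y z : V) : ℕ := #(blkN G x y ∩ blkN G x z)

/-- The relation value of two vertices seen from `x`. -/
def sig (G : SimpleGraph V) [DecidableRel G.Adj] (x y z : V) : ℕ :=
  (if G.Adj y z then 2 else 0) + iN G x y z

/-- The vertices not adjacent to `x` and distinct from it. -/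
def far (G : SimpleGraph V) [DecidableRel G.Adj] (x : V) : Finset V := {v | v ≠ x ∧ ¬ G.Adj x v}

theorem mem_far {x v : V} : v ∈ far G x ↔ v ≠ x ∧ ¬ G.Adj x v := by simp [far]

theorem sig_comm (x y z : V) : sig G x y z = sig G x z y := by
  simp [sig, iN, inter_comm, G.adj_comm]

theorem mem_blkN {x y u : V} : u ∈ blkN G x y ↔ G.Adj x u ∧ G.Adj y u := by simp [blkN]

include hG

theorem card_blkN {x y : V} (hy : y ∈ far G x) : #(blkN G x y) = 4 :=
  common_non hG (mem_far.1 hy).1.symm (mem_far.1 hy).2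

theorem iN_adj {x y z : V} (h : G.Adj y z) : iN G x y z = 0 := by
  rw [iN, card_eq_zero, eq_empty_iff_forall_notMem]
  intro u hu
  rw [mem_inter, mem_blkN, mem_blkN] at hu
  exact no_tri hG hu.1.2.symm hu.2.2.symm h

theorem iN_le_two {x y z : V} (hy : y ∈ far G x) (hz : z ∈ far G x) (hne : y ≠ z) : iN G x y z ≤ 2 := by
  by_cases ha : G.Adj y z
  · simp [iN_adj hG ha]
  by_contra hcon
  obtain ⟨hyx, hxy⟩ := mem_far.1 hy
  obtain ⟨hzx, hxz⟩ := mem_far.1 hz
  set i := iN G x y z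
  set f : V → ℤ := fun v =>
    18 * ind {y} v + 18 * ind {z} v + 9 * ind (blkN G x y) v + 9 * ind (blkN G x z) v - 4 * ind (Γ x) v
  have dot : ∀ g : V → ℤ, ∑ v, f v * g v = 18 * g y + 18 * g z + 9 * ∑ v ∈ blkN G x y, g v +
      9 * ∑ v ∈ blkN G x z, g v - 4 * ∑ v ∈ Γ x, g v := by
    intro g
    simp only [f, sub_mul, add_mul, mul_assoc, sum_sub_distrib, sum_add_distrib, ← mul_sum, sum_ind_mul,
      sum_singleton]
  have hA : ∀ v, adjOp G f v = 18 * (#(Γ v ∩ {y}) : ℤ) + 18 * #(Γ v ∩ {z}) + 9 * #(Γ v ∩ blkN G x y) +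
      9 * #(Γ v ∩ blkN G x z) - 4 * #(Γ v ∩ Γ x) := by
    intro v
    simp only [← adjOp_ind]
    simp only [adjOp, f, sum_sub_distrib, sum_add_distrib, mul_sum]
  have hby : blkN G x y ⊆ Γ x := inter_subset_left
  have hbz : blkN G x z ⊆ Γ x := inter_subset_left
  have hcy := card_blkN hG hy
  have hcz := card_blkN hG hz
  have ey : Γ y ∩ blkN G x y = blkN G x y := inter_eq_right.2 inter_subset_right
  have ez : Γ z ∩ blkN G x z = blkN G x z := inter_eq_right.2 inter_subset_right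
  have eyz : #(Γ y ∩ blkN G x z) = i := by
    show _ = #(blkN G x y ∩ blkN G x z)
    congr 1
    ext u; simp [mem_blkN]; tauto
  have ezy : #(Γ z ∩ blkN G x y) = i := by
    show _ = #(blkN G x y ∩ blkN G x z)
    congr 1
    ext u; simp [mem_blkN]; tauto
  have nyy : Γ y ∩ {y} = ∅ := by simp
  have nzz : Γ z ∩ {z} = ∅ := by simp
  have nyz : Γ y ∩ {z} = ∅ := by simp [ha]
  have nzy : Γ z ∩ {y} = ∅ := by simp [G.adj_comm z y, ha]
  have hAy : adjOp G f y = 20 + 9 * (i : ℤ) := by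
    rw [hA, nyy, nyz, ey, eyz, hcy, inter_comm (Γ y) (Γ x), show Γ x ∩ Γ y = blkN G x y from rfl, hcy]
    simp only [card_empty]; push_cast; ring
  have hAz : adjOp G f z = 20 + 9 * (i : ℤ) := by
    rw [hA, nzy, nzz, ez, ezy, hcz, inter_comm (Γ z) (Γ x), show Γ x ∩ Γ z = blkN G x z from rfl, hcz]
    simp only [card_empty]; push_cast; ring
  have indep : ∀ u ∈ Γ x, ∀ S ⊆ Γ x, Γ u ∩ S = ∅ := by
    intro u hu S hS
    rw [eq_empty_iff_forall_notMem]
    intro v hv
    obtain ⟨hv, hv'⟩ := mem_inter.1 hv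
    exact no_tri hG (mem_nb.1 hu) (mem_nb.1 (hS hv')) (mem_nb.1 hv)
  have hAu : ∀ u ∈ Γ x, adjOp G f u = 18 * ind (blkN G x y) u + 18 * ind (blkN G x z) u := by
    intro u hu
    have key : ∀ w, (#(Γ u ∩ {w}) : ℤ) = ind (blkN G x w) u := by
      intro w
      have hu' := mem_nb.1 hu
      by_cases h : G.Adj w u <;> simp [ind, mem_blkN, h, G.adj_comm u w, hu']
    rw [hA, key, key, indep u hu _ hby, indep u hu _ hbz, indep u hu _ subset_rfl]
    simp
  have hfu : ∀ u ∈ Γ x, f u = 9 * ind (blkN G x y) u + 9 * ind (blkN G x z) u - 4 := by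
    intro u hu
    have h1 : ind ({y} : Finset V) u = 0 := by
      simp only [ind, mem_singleton]; rw [if_neg]; rintro rfl; exact hxy (mem_nb.1 hu)
    have h2 : ind ({z} : Finset V) u = 0 := by
      simp only [ind, mem_singleton]; rw [if_neg]; rintro rfl; exact hxz (mem_nb.1 hu)
    show 18 * ind {y} u + 18 * ind {z} u + 9 * ind (blkN G x y) u + 9 * ind (blkN G x z) u -
      4 * ind (Γ x) u = _
    rw [h1, h2, show ind (Γ x) u = 1 from if_pos hu]
    ring
  have hfy : f y = 18 := by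
    simp [f, ind, hne, mem_blkN, hxy]
  have hfz : f z = 18 := by
    simp [f, ind, hne.symm, mem_blkN, hxz]
  have sum1 : ∀ S ⊆ Γ x, ∑ v ∈ S, ind (blkN G x y) v = #(S ∩ blkN G x y) := fun S _ => by
    simp [ind, sum_ite_mem]
  have sum2 : ∀ S ⊆ Γ x, ∑ v ∈ S, ind (blkN G x z) v = #(S ∩ blkN G x z) := fun S _ => by
    simp [ind, sum_ite_mem]
  have iy : blkN G x y ∩ blkN G x y = blkN G x y := inter_self _
  have iz : blkN G x z ∩ blkN G x z = blkN G x z := inter_self _
  have iyz : #(blkN G x y ∩ blkN G x z) = i := rfl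
  have izy : #(blkN G x z ∩ blkN G x y) = i := by rw [inter_comm]; rfl
  have xy : Γ x ∩ blkN G x y = blkN G x y := inter_eq_right.2 hby
  have xz : Γ x ∩ blkN G x z = blkN G x z := inter_eq_right.2 hbz
  have hsum : ∑ v, f v = 44 := by
    have := dot 1
    simp only [Pi.one_apply, mul_one, sum_const, nsmul_eq_mul, card_nb hG, hcy, hcz] at this
    rw [this]; norm_num
  have hff : ∑ v, f v * f v = 976 + 162 * (i : ℤ) := by
    rw [dot, hfy, hfz, sum_congr rfl (fun v hv => hfu v (hby hv)), sum_congr rfl (fun v hv => hfu v (hbz hv)),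
      sum_congr rfl hfu]
    simp only [sum_sub_distrib, sum_add_distrib, ← mul_sum, sum1 _ hby, sum1 _ hbz, sum1 _ subset_rfl,
      sum2 _ hby, sum2 _ hbz, sum2 _ subset_rfl, iy, iz, iyz, izy, xy, xz, hcy, hcz, sum_const, card_nb hG,
      nsmul_eq_mul]
    push_cast; ring
  have hfA : ∑ v, f v * adjOp G f v = 1440 + 648 * (i : ℤ) := by
    rw [dot, hAy, hAz, sum_congr rfl (fun v hv => hAu v (hby hv)), sum_congr rfl (fun v hv => hAu v (hbz hv)),
      sum_congr rfl hAu]
    simp only [sum_add_distrib, ← mul_sum, sum1 _ hby, sum1 _ hbz, sum1 _ subset_rfl,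
      sum2 _ hby, sum2 _ hbz, sum2 _ subset_rfl, iy, iz, iyz, izy, xy, xz, hcy, hcz]
    push_cast; ring
  have hnn := form_nonneg hG f
  rw [form, hff, hfA, hsum] at hnn
  omega

omit hG in
theorem sig_zero_iff {x y z : V} : sig G x y z = 0 ↔ ¬ G.Adj y z ∧ iN G x y z = 0 := by
  by_cases h : G.Adj y z <;> simp [sig, h]

theorem sig_le_two {x y z : V} (hy : y ∈ far G x) (hz : z ∈ far G x) (hne : y ≠ z) : sig G x y z ≤ 2 := by
  by_cases h : G.Adj y z
  · simp [sig, h, iN_adj hG h]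
  · simpa [sig, h] using iN_le_two hG hy hz hne

/-- Twin vertices have the same relations. -/
theorem sig_twin {x y z w : V} (hy : y ∈ far G x) (hz : z ∈ far G x) (hw : w ∈ far G x) (hyz : y ≠ z)
    (h0 : sig G x y z = 0) (hwy : w ≠ y) (hwz : w ≠ z) : sig G x w y = sig G x w z := by
  obtain ⟨ha, hi⟩ := sig_zero_iff.1 h0
  obtain ⟨hyx, hxy⟩ := mem_far.1 hy
  obtain ⟨hzx, hxz⟩ := mem_far.1 hz
  have hd : blkN G x y ∩ blkN G x z = ∅ := card_eq_zero.1 hi
  set f : V → ℤ := fun v => 2 * ind {y} v - 2 * ind {z} v + ind (blkN G x y) v - ind (blkN G x z) v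
  have dot : ∀ g : V → ℤ, ∑ v, f v * g v = 2 * g y - 2 * g z + ∑ v ∈ blkN G x y, g v -
      ∑ v ∈ blkN G x z, g v := by
    intro g
    simp only [f, sub_mul, add_mul, mul_assoc, sum_sub_distrib, sum_add_distrib, ← mul_sum, sum_ind_mul,
      sum_singleton]
  have hA : ∀ v, adjOp G f v = 2 * (#(Γ v ∩ {y}) : ℤ) - 2 * #(Γ v ∩ {z}) + #(Γ v ∩ blkN G x y) -
      #(Γ v ∩ blkN G x z) := by
    intro v
    simp only [← adjOp_ind]
    simp only [adjOp, f, sum_sub_distrib, sum_add_distrib, mul_sum]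
  have nd1 : ∀ u ∈ blkN G x y, u ∉ blkN G x z := fun u hu hu' =>
    eq_empty_iff_forall_notMem.1 hd u (mem_inter.2 ⟨hu, hu'⟩)
  have nd2 : ∀ u ∈ blkN G x z, u ∉ blkN G x y := fun u hu hu' => nd1 u hu' hu
  have ney : ∀ u ∈ Γ x, u ≠ y := fun u hu e => hxy (e ▸ mem_nb.1 hu)
  have nez : ∀ u ∈ Γ x, u ≠ z := fun u hu e => hxz (e ▸ mem_nb.1 hu)
  have fy : f y = 2 := by simp [f, ind, hyz, mem_blkN, hxy]
  have fz : f z = -2 := by simp [f, ind, hyz.symm, mem_blkN, hxz]
  have fby : ∀ u ∈ blkN G x y, f u = 1 := fun u hu => by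
    simp [f, ind, hu, nd1 u hu, ney u (inter_subset_left hu), nez u (inter_subset_left hu)]
  have fbz : ∀ u ∈ blkN G x z, f u = -1 := fun u hu => by
    simp [f, ind, hu, nd2 u hu, ney u (inter_subset_left hu), nez u (inter_subset_left hu)]
  have hcy := card_blkN hG hy
  have hcz := card_blkN hG hz
  have indep : ∀ u ∈ Γ x, ∀ S ⊆ Γ x, #(Γ u ∩ S) = 0 := by
    intro u hu S hS
    rw [card_eq_zero, eq_empty_iff_forall_notMem]
    intro v hv
    obtain ⟨hv, hv'⟩ := mem_inter.1 hv
    exact no_tri hG (mem_nb.1 hu) (mem_nb.1 (hS hv')) (mem_nb.1 hv)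
  have Ay : adjOp G f y = 4 := by
    rw [hA, show Γ y ∩ blkN G x y = blkN G x y from inter_eq_right.2 inter_subset_right, hcy,
      show Γ y ∩ blkN G x z = ∅ from eq_empty_iff_forall_notMem.2 fun u hu => by
        rw [mem_inter, mem_nb, mem_blkN] at hu
        exact nd1 u (mem_blkN.2 ⟨hu.2.1, hu.1⟩) (mem_blkN.2 hu.2),
      show Γ y ∩ {y} = ∅ by simp, show Γ y ∩ {z} = ∅ by simp [ha]]
    simp
  have Az : adjOp G f z = -4 := by
    rw [hA, show Γ z ∩ blkN G x z = blkN G x z from inter_eq_right.2 inter_subset_right, hcz,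
      show Γ z ∩ blkN G x y = ∅ from eq_empty_iff_forall_notMem.2 fun u hu => by
        rw [mem_inter, mem_nb, mem_blkN] at hu
        exact nd2 u (mem_blkN.2 ⟨hu.2.1, hu.1⟩) (mem_blkN.2 hu.2),
      show Γ z ∩ {y} = ∅ by simp [G.adj_comm z y, ha], show Γ z ∩ {z} = ∅ by simp]
    simp
  have Aby : ∀ u ∈ blkN G x y, adjOp G f u = 2 := by
    intro u hu
    have hux : u ∈ Γ x := inter_subset_left hu
    have h1 : G.Adj u y := (mem_blkN.1 hu).2.symm
    have h2 : ¬ G.Adj u z := fun h => nd1 u hu (mem_blkN.2 ⟨mem_nb.1 hux, h.symm⟩)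
    rw [hA, indep u hux _ (show blkN G x y ⊆ Γ x from inter_subset_left),
      indep u hux _ (show blkN G x z ⊆ Γ x from inter_subset_left)]
    simp [h1, h2]
  have Abz : ∀ u ∈ blkN G x z, adjOp G f u = -2 := by
    intro u hu
    have hux : u ∈ Γ x := inter_subset_left hu
    have h1 : G.Adj u z := (mem_blkN.1 hu).2.symm
    have h2 : ¬ G.Adj u y := fun h => nd2 u hu (mem_blkN.2 ⟨mem_nb.1 hux, h.symm⟩)
    rw [hA, indep u hux _ (show blkN G x y ⊆ Γ x from inter_subset_left),
      indep u hux _ (show blkN G x z ⊆ Γ x from inter_subset_left)]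
    simp [h1, h2]
  have hS : ∑ v, f v = 0 := by
    have := dot 1
    simpa [hcy, hcz] using this
  have hQ : form G f = 0 := by
    rw [form, hS, dot, dot, fy, fz, Ay, Az, sum_congr rfl fby, sum_congr rfl fbz, sum_congr rfl Aby,
      sum_congr rfl Abz]
    simp [hcy, hcz]
  have h := form_zero hG hQ w
  obtain ⟨hwx, hxw⟩ := mem_far.1 hw
  have fw : f w = 0 := by simp [f, ind, hwy, hwz, mem_blkN, hxw]
  rw [hS, fw, hA] at h
  have e1 : ∀ s, #(Γ w ∩ blkN G x s) = iN G x w s := fun s => congrArg Finset.card (by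
    ext u; simp [mem_blkN]; tauto)
  rw [e1, e1] at h
  have e2 : ∀ s, (#(Γ w ∩ {s}) : ℤ) * 2 = if G.Adj w s then 2 else 0 := fun s => by
    by_cases hs : G.Adj w s <;> simp [hs]
  have := e2 y
  have := e2 z
  unfold sig
  by_cases p1 : G.Adj w y <;> by_cases p2 : G.Adj w z <;> simp [p1, p2] at * <;> omega

end CfsgLib.Spor.Srg77
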