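/-
The fifteen classes of four vertices far from `x` form a quadrangle of order two, and the co-cliques of
21 vertices through `x` correspond to its ovoids.
-/
import Cfsg.Agent.Lib.Spor.Srg77.Main

set_option autoImplicit false

namespace CfsgLib.Spor.Srg77

open Finset

variable {V : Type*} [Fintype V] [DecidableEq V] {G : SimpleGraph V} [DecidableRel G.Adj]

local notation "Γ" => G.neighborFinset

/-- The class of `y` seen from `x`. -/
def cls (G : SimpleGraph V) [DecidableRel G.Adj] (x y : V) : Finset V :=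
  {z ∈ far G x | z = y ∨ sig G x y z = 0}

theorem mem_cls {x y z : V} : z ∈ cls G x y ↔ z ∈ far G x ∧ (z = y ∨ sig G x y z = 0) := by simp [cls]

theorem self_mem_cls {x y : V} (hy : y ∈ far G x) : y ∈ cls G x y := mem_cls.2 ⟨hy, Or.inl rfl⟩

theorem cls_subset {x y : V} : cls G x y ⊆ far G x := filter_subset _ _

variable (hG : G.IsSRGWith 77 16 0 4)
include hG

theorem card_far (x : V) : #(far G x) = 60 := by
  have h : far G x = univ \ insert x (Γ x) := by ext v; simp [far]
  rw [h, card_sdiff_of_subset (subset_univ _), card_univ, hG.card, card_insert_of_notMem (by simp),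
    card_nb hG]

theorem cls_eq {x y z : V} (hy : y ∈ far G x) (hz : z ∈ cls G x y) : cls G x z = cls G x y := by
  obtain ⟨hzf, rfl | h⟩ := mem_cls.1 hz
  · rfl
  by_cases hyz : y = z
  · rw [hyz]
  ext w
  rw [mem_cls, mem_cls]
  refine and_congr_right fun hw => ?_
  by_cases h1 : w = y
  · subst h1
    simp only [true_or, iff_true]
    exact Or.inr (by rw [sig_comm]; exact h)
  by_cases h2 : w = z
  · subst h2
    simp only [true_or, true_iff]
    exact Or.inr h
  simp only [h1, h2, false_or]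
  rw [sig_comm x z w, sig_comm x y w, sig_twin hG hy hzf hw hyz h h1 h2]

/-- The number of relations of each value at a vertex. -/
theorem sig_counts {x y : V} (hy : y ∈ far G x) :
    #{z ∈ (far G x).erase y | sig G x y z = 0} = 3 ∧ #{z ∈ (far G x).erase y | G.Adj y z} = 12 := by
  obtain ⟨hyx, hxy⟩ := mem_far.1 hy
  set Z := (far G x).erase y
  have hZ : #Z = 59 := by rw [card_erase_of_mem hy, card_far hG]
  have hnZ : ∀ u ∈ blkN G x y, {z ∈ Z | z ∈ Γ u} = (Γ u \ {x, y} : Finset V) := by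
    intro u hu
    obtain ⟨hux, huy⟩ := mem_blkN.1 hu
    ext z
    simp only [Z, mem_filter, mem_erase, mem_far, mem_sdiff, mem_insert, mem_singleton, mem_nb]
    exact ⟨fun ⟨⟨a, b, _⟩, c⟩ => ⟨c, fun e => e.elim b a⟩,
      fun ⟨c, b⟩ => ⟨⟨fun e => b (Or.inr e), fun e => b (Or.inl e),
        fun hxz => no_tri hG hux hxz c.symm.symm |>.elim⟩, c⟩⟩
  have hxy2 : #({x, y} : Finset V) = 2 := card_pair hyx.symm
  have hdeg : ∀ u ∈ blkN G x y, #{z ∈ Z | z ∈ Γ u} = 14 := by
    intro u hu
    obtain ⟨hux, huy⟩ := mem_blkN.1 hu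
    rw [hnZ u hu, card_sdiff_of_subset, card_nb hG, hxy2]
    simp [insert_subset_iff, hux.symm, huy.symm]
  have hpair : ∀ u ∈ blkN G x y, ∀ v ∈ blkN G x y, u ≠ v → #{z ∈ Z | z ∈ Γ u ∧ z ∈ Γ v} = 2 := by
    intro u hu v hv huv
    obtain ⟨hux, huy⟩ := mem_blkN.1 hu
    obtain ⟨hvx, hvy⟩ := mem_blkN.1 hv
    have e : ({z ∈ Z | z ∈ Γ u ∧ z ∈ Γ v} : Finset V) = (Γ u ∩ Γ v) \ {x, y} := by
      rw [filter_and, hnZ u hu, hnZ v hv]
      ext z; simp; tauto
    rw [e, card_sdiff_of_subset, common_non hG huv (no_tri hG hux hvx), hxy2]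
    simp [insert_subset_iff, hux.symm, huy.symm, hvx.symm, hvy.symm]
  have hi : ∀ z, iN G x y z = #{u ∈ blkN G x y | z ∈ Γ u} := by
    intro z
    rw [iN]
    congr 1
    ext u
    simp only [mem_inter, mem_blkN, mem_filter, mem_nb]
    exact ⟨fun ⟨a, _, b⟩ => ⟨a, b.symm⟩, fun ⟨a, b⟩ => ⟨a, a.1, b.symm⟩⟩
  have hsum : ∑ z ∈ Z, iN G x y z = 56 := by
    simp only [hi, card_filter]
    rw [sum_comm, sum_const_nat (m := 14) (fun u hu => ?_), card_blkN hG hy]
    rw [← card_filter]; exact hdeg u hu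
  have hsq : ∑ z ∈ Z, iN G x y z ^ 2 = 80 := by
    simp only [hi, card_filter, sq, sum_mul_sum]
    rw [sum_comm, sum_const_nat (m := 20) (fun u hu => ?_), card_blkN hG hy]
    rw [sum_comm, ← add_sum_erase _ _ hu, sum_const_nat (s := (blkN G x y).erase u) (m := 2) (fun v hv => ?_),
      card_erase_of_mem hu, card_blkN hG hy]
    · have := hdeg u hu
      rw [card_filter] at this
      rw [sum_congr rfl (fun z _ => show (if z ∈ Γ u then 1 else 0) * (if z ∈ Γ u then 1 else 0) =
        (if z ∈ Γ u then 1 else 0 : ℕ) by split_ifs <;> rfl), this]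
    · have := hpair u hu v (mem_erase.1 hv).2 (mem_erase.1 hv).1.symm
      rw [card_filter] at this
      rw [← this]
      exact sum_congr rfl fun z _ => by by_cases a : z ∈ Γ u <;> by_cases b : z ∈ Γ v <;> simp [a, b]
  have hadj : #{z ∈ Z | G.Adj y z} = 12 := by
    have e : ({z ∈ Z | G.Adj y z} : Finset V) = Γ y \ blkN G x y := by
      ext z
      simp only [Z, mem_filter, mem_erase, mem_far, mem_sdiff, mem_nb, mem_blkN]
      exact ⟨fun ⟨⟨_, _, b⟩, c⟩ => ⟨c, fun h => b h.1⟩,
        fun ⟨c, b⟩ => ⟨⟨c.ne', fun e => hxy (e ▸ c.symm), fun h => b ⟨h, c⟩⟩, c⟩⟩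
    rw [e, card_sdiff_of_subset (show blkN G x y ⊆ Γ y from inter_subset_right), card_nb hG, card_blkN hG hy]
  refine ⟨?_, hadj⟩
  -- pointwise: the value decides the relation
  have hpt : ∀ z ∈ Z, (if sig G x y z = 0 then 1 else 0) * 2 + 3 * iN G x y z +
      (if G.Adj y z then 1 else 0) * 2 = 2 + iN G x y z ^ 2 := by
    intro z hz
    obtain ⟨hne, hzf⟩ := mem_erase.1 hz
    have h2 := iN_le_two hG hy hzf hne.symm
    by_cases ha : G.Adj y z
    · simp [sig, ha, iN_adj hG ha]
    · simp only [sig, ha, if_false, zero_add, zero_mul, add_zero]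
      interval_cases iN G x y z <;> simp
  have := sum_congr rfl hpt
  simp only [sum_add_distrib, ← sum_mul, ← mul_sum, ← card_filter, sum_const, hZ, smul_eq_mul,
    hsum, hsq] at this
  omega

theorem card_cls {x y : V} (hy : y ∈ far G x) : #(cls G x y) = 4 := by
  have h : cls G x y = insert y {z ∈ (far G x).erase y | sig G x y z = 0} := by
    ext z
    simp only [mem_cls, mem_insert, mem_filter, mem_erase]
    by_cases hzy : z = y <;> simp [hzy, hy]
  rw [h, card_insert_of_notMem (by simp), (sig_counts hG hy).1]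

/-- Each vertex adjacent to `x` has exactly one neighbour in each class. -/
theorem nb_cls_one {x y u : V} (hy : y ∈ far G x) (hu : u ∈ Γ x) : #(Γ u ∩ cls G x y) = 1 := by
  have hd : Set.PairwiseDisjoint (cls G x y : Set V) (blkN G x) := by
    intro a ha b hb hab
    have e := cls_eq hG hy (mem_coe.1 ha)
    have hb' : b ∈ cls G x a := e ▸ mem_coe.1 hb
    obtain h := ((mem_cls.1 hb').2.resolve_left hab.symm)
    exact disjoint_iff_inter_eq_empty.2 (card_eq_zero.1 (sig_zero_iff.1 h).2)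
  have hU : (cls G x y).biUnion (blkN G x) = Γ x := by
    refine eq_of_subset_of_card_le (biUnion_subset.2 fun a _ => inter_subset_left) ?_
    rw [card_biUnion hd, sum_congr rfl (fun a ha => card_blkN hG (cls_subset ha)), sum_const, card_cls hG hy,
      card_nb hG]
    rfl
  rw [← hU] at hu
  obtain ⟨a, ha, hua⟩ := mem_biUnion.1 hu
  refine card_eq_one.2 ⟨a, eq_singleton_iff_unique_mem.2 ⟨?_, fun b hb => ?_⟩⟩
  · exact mem_inter.2 ⟨mem_nb.2 (mem_blkN.1 hua).2.symm, ha⟩
  · obtain ⟨hb, hb'⟩ := mem_inter.1 hb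
    by_contra hba
    exact disjoint_left.1 (hd (mem_coe.2 hb') (mem_coe.2 ha) hba)
      (mem_blkN.2 ⟨(mem_blkN.1 hua).1, (mem_nb.1 hb).symm⟩) hua

omit hG

/-- The relation between classes. -/
def clsR (G : SimpleGraph V) [DecidableRel G.Adj] (x : V) (p q : Finset V) : Prop :=
  ∃ y ∈ p, ∃ z ∈ q, y ≠ z ∧ sig G x y z = 2

instance (x : V) : DecidableRel (clsR G x) := fun p q => by unfold clsR; infer_instance

include hG

theorem clsR_iff {x y z : V} (hy : y ∈ far G x) (hz : z ∈ far G x) :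
    clsR G x (cls G x y) (cls G x z) ↔ y ≠ z ∧ sig G x y z = 2 := by
  refine ⟨fun ⟨a, ha, b, hb, hab, h⟩ => ?_, fun h => ⟨y, self_mem_cls hy, z, self_mem_cls hz, h⟩⟩
  have haf := cls_subset ha
  have hbf := cls_subset hb
  have hdist : cls G x y ≠ cls G x z := by
    intro e
    have e' := (cls_eq hG hy ha).trans (e.trans (cls_eq hG hz hb).symm)
    have : b ∈ cls G x a := e' ▸ self_mem_cls hbf
    have := (mem_cls.1 this).2.resolve_left hab.symm
    omega
  have hyz : y ≠ z := fun e => hdist (e ▸ rfl)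
  refine ⟨hyz, ?_⟩
  have haz : a ≠ z := fun e => hdist (by rw [← cls_eq hG hy ha, e])
  have hbz : sig G x a z = 2 := by
    by_cases hbz : b = z
    · exact hbz ▸ h
    · have h0 := (mem_cls.1 hb).2.resolve_left hbz
      rw [sig_twin hG hz hbf haf (Ne.symm hbz) h0 haz hab]
      exact h
  by_cases hay : a = y
  · exact hay ▸ hbz
  · have h0 := (mem_cls.1 ha).2.resolve_left hay
    rw [sig_comm, sig_twin hG hy haf hz (Ne.symm hay) h0 hyz.symm haz.symm, sig_comm]
    exact hbz

theorem far_adj_cls {x w z : V} (hw : w ∈ far G x) (hz : z ∈ far G x) :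
    #(Γ w ∩ cls G x z) = if clsR G x (cls G x w) (cls G x z) then 2 else 0 := by
  by_cases hwz : w ∈ cls G x z
  · have e := cls_eq hG hz hwz
    rw [if_neg, card_eq_zero, eq_empty_iff_forall_notMem]
    · intro a ha
      obtain ⟨ha, ha'⟩ := mem_inter.1 ha
      rw [← e, mem_cls] at ha'
      rcases ha'.2 with rfl | h
      · exact (mem_nb.1 ha).ne rfl
      · exact (sig_zero_iff.1 h).1 (mem_nb.1 ha)
    · rw [← e, clsR_iff hG hw hw]; exact fun h => h.1 rfl
  have hne : ∀ a ∈ cls G x z, w ≠ a := fun a ha e => hwz (e ▸ ha)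
  have hconst : ∀ a ∈ cls G x z, sig G x w a = sig G x w z := by
    intro a ha
    by_cases hza : a = z
    · rw [hza]
    · exact (sig_twin hG hz (cls_subset ha) hw (Ne.symm hza) ((mem_cls.1 ha).2.resolve_left hza)
        (hne z (self_mem_cls hz)) (hne a ha)).symm
  have hz2 := sig_le_two hG hw hz (hne z (self_mem_cls hz))
  have hz0 : sig G x w z ≠ 0 := fun h => hwz (mem_cls.2 ⟨hw, Or.inr (by rw [sig_comm]; exact h)⟩)
  have hiff := clsR_iff hG hw hz
  have hsum : ∑ a ∈ cls G x z, iN G x w a = 4 := by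
    have hi : ∀ a, iN G x w a = #{u ∈ blkN G x w | a ∈ Γ u} := by
      intro a
      rw [iN]
      congr 1
      ext u
      simp only [mem_inter, mem_blkN, mem_filter, mem_nb]
      exact ⟨fun ⟨p, _, q⟩ => ⟨p, q.symm⟩, fun ⟨p, q⟩ => ⟨p, p.1, q.symm⟩⟩
    simp only [hi, card_filter]
    rw [sum_comm, sum_const_nat (m := 1) (fun u hu => ?_), card_blkN hG hw]
    rw [← card_filter, filter_mem_eq_inter, inter_comm]
    exact nb_cls_one hG hz (inter_subset_left hu)
  have e : Γ w ∩ cls G x z = {a ∈ cls G x z | G.Adj w a} := by ext a; simp [and_comm]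
  rw [e]
  by_cases h2 : sig G x w z = 2
  · rw [if_pos (hiff.2 ⟨hne z (self_mem_cls hz), h2⟩)]
    have hpt : ∀ a ∈ cls G x z, iN G x w a + (if G.Adj w a then 1 else 0) * 2 = 2 := by
      intro a ha
      have := hconst a ha
      rw [h2] at this
      by_cases hadj : G.Adj w a
      · simp [iN_adj hG hadj, hadj]
      · simp [sig, hadj] at this ⊢; exact this
    have := sum_congr rfl hpt
    rw [sum_add_distrib, hsum, ← sum_mul, ← card_filter, sum_const, card_cls hG hz, smul_eq_mul] at this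
    omega
  · rw [if_neg (fun h => h2 (hiff.1 h).2), card_eq_zero, filter_eq_empty_iff]
    intro a ha hadj
    have h := hconst a ha
    rw [show sig G x w a = 2 by simp [sig, hadj, iN_adj hG hadj]] at h
    omega

omit hG

/-- The classes seen from `x`. -/
def classes (G : SimpleGraph V) [DecidableRel G.Adj] (x : V) : Finset (Finset V) := (far G x).image (cls G x)

/-- The classes as a type. -/
abbrev Cl (G : SimpleGraph V) [DecidableRel G.Adj] (x : V) := {p : Finset V // p ∈ classes G x}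

theorem exists_rep {x : V} (p : Cl G x) : ∃ y ∈ far G x, cls G x y = p.1 := by
  simpa [classes] using p.2

/-- The class of a far vertex as an element of the type. -/
def toCl {x : V} (y : V) (hy : y ∈ far G x) : Cl G x := ⟨cls G x y, mem_image_of_mem _ hy⟩

include hG

theorem eq_of_mem {x z : V} (p : Cl G x) (hz : z ∈ p.1) : z ∈ far G x ∧ cls G x z = p.1 := by
  obtain ⟨y, hy, e⟩ := exists_rep p
  rw [← e] at hz ⊢
  exact ⟨cls_subset hz, cls_eq hG hy hz⟩

theorem disj_cls {x : V} {p q : Cl G x} (hne : p ≠ q) : Disjoint p.1 q.1 := by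
  rw [disjoint_left]
  intro z hp hq
  exact hne (Subtype.ext ((eq_of_mem hG p hp).2.symm.trans (eq_of_mem hG q hq).2))

theorem card_cl {x : V} (p : Cl G x) : #p.1 = 4 := by
  obtain ⟨y, hy, e⟩ := exists_rep p
  rw [← e, card_cls hG hy]

/-- Decompose a count over far vertices into classes. -/
theorem sum_far {x : V} (g : V → ℕ) : ∑ z ∈ far G x, g z = ∑ p : Cl G x, ∑ z ∈ p.1, g z := by
  rw [← sum_biUnion fun p _ q _ hne => disj_cls hG hne]
  refine sum_congr ?_ fun _ _ => rfl
  ext z
  simp only [mem_biUnion, mem_univ, true_and]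
  exact ⟨fun h => ⟨toCl z h, self_mem_cls h⟩, fun ⟨p, hp⟩ => (eq_of_mem hG p hp).1⟩

theorem quad (x : V) : Quad (Cl G x) (fun p q => clsR G x p.1 q.1) where
  card := by
    have h := sum_far hG (x := x) (fun _ => 1)
    simp only [sum_const, smul_eq_mul, mul_one, card_far hG, card_cl hG, card_univ] at h
    omega
  irrefl p h := by
    obtain ⟨y, hy, e⟩ := exists_rep p
    rw [← e] at h
    exact ((clsR_iff hG hy hy).1 h).1 rfl
  symm p q h := by
    obtain ⟨a, ha, b, hb, hne, hs⟩ := h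
    exact ⟨b, hb, a, ha, hne.symm, by rw [sig_comm]; exact hs⟩
  deg p := by
    obtain ⟨y, hy, e⟩ := exists_rep p
    have h := sum_far hG (x := x) (fun z => if G.Adj y z then 1 else 0)
    have hc := (sig_counts hG hy).2
    rw [filter_erase, erase_eq_of_notMem (by simp)] at hc
    rw [← card_filter, hc, sum_congr rfl (fun q _ => ?_)] at h
    rotate_left
    · exact fun q => if clsR G x p.1 q.1 then 2 else 0
    · obtain ⟨z, hz, e'⟩ := exists_rep q
      rw [← e', ← e, ← card_filter, ← far_adj_cls hG hy hz]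
      congr 1
      ext a; simp [and_comm]
    rw [← sum_filter, sum_const, smul_eq_mul] at h
    omega
  lam p q hpq := by
    obtain ⟨y, hy, e⟩ := exists_rep p
    obtain ⟨z, hz, e'⟩ := exists_rep q
    have h := common_count hy hz
    rw [e, e', if_pos hpq] at h
    omega
  mu p q hne hpq := by
    obtain ⟨y, hy, e⟩ := exists_rep p
    obtain ⟨z, hz, e'⟩ := exists_rep q
    have hyq : y ∉ q.1 := fun h => hne (Subtype.ext (e.symm.trans (eq_of_mem hG q h).2))
    have h := common_count hy hz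
    rw [e, e', if_neg hpq, if_neg hyq] at h
    omega
where
  /-- Common neighbours of `y` and the members of a class. -/
  common_count {y z : V} (hy : y ∈ far G x) (hz : z ∈ far G x) :
      4 + 4 * #{r : Cl G x | clsR G x (cls G x y) r.1 ∧ clsR G x (cls G x z) r.1} =
        if clsR G x (cls G x y) (cls G x z) then 8 else if y ∈ cls G x z then 28 else 16 := by
    have h1 : ∑ a ∈ cls G x z, #(Γ y ∩ Γ a) = ∑ w ∈ Γ y, #(Γ w ∩ cls G x z) := by
      calc ∑ a ∈ cls G x z, #(Γ y ∩ Γ a)
          = ∑ a ∈ cls G x z, ∑ w ∈ Γ y, (if G.Adj a w then 1 else 0) := sum_congr rfl fun a _ => by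
            rw [← card_filter]; congr 1; ext u; simp
        _ = ∑ w ∈ Γ y, ∑ a ∈ cls G x z, (if G.Adj a w then 1 else 0) := sum_comm
        _ = ∑ w ∈ Γ y, #(Γ w ∩ cls G x z) := sum_congr rfl fun w _ => by
            rw [← card_filter]; congr 1; ext u; simp [and_comm, G.adj_comm]
    have h2 : ∑ w ∈ Γ y, #(Γ w ∩ cls G x z) = 4 + 4 * #{r : Cl G x |
        clsR G x (cls G x y) r.1 ∧ clsR G x (cls G x z) r.1} := by
      have hsplit : Γ y = blkN G x y ∪ {w ∈ far G x | G.Adj y w} := by
        ext w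
        simp only [mem_union, mem_filter, mem_blkN, mem_far, mem_nb]
        refine ⟨fun h => ?_, fun h => h.elim (fun h => h.2) (fun h => h.2)⟩
        by_cases hxw : G.Adj x w
        · exact Or.inl ⟨hxw, h⟩
        · exact Or.inr ⟨⟨fun e => (mem_far.1 hy).2 (e ▸ h.symm), hxw⟩, h⟩
      conv_lhs => rw [hsplit]
      rw [sum_union (disjoint_left.2 fun w h h' => (mem_far.1 (mem_filter.1 h').1).2 (mem_blkN.1 h).1),
        sum_const_nat (s := blkN G x y) (m := 1) (fun u hu => nb_cls_one hG hz (mem_nb.2 (mem_blkN.1 hu).1)), card_blkN hG hy,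
        sum_filter, sum_far hG, sum_congr rfl (fun r _ => ?_)]
      rotate_left
      · exact fun r => if clsR G x (cls G x y) r.1 ∧ clsR G x (cls G x z) r.1 then 4 else 0
      · obtain ⟨a, ha, e⟩ := exists_rep r
        rw [← sum_filter, sum_const_nat (s := ({w ∈ r.1 | G.Adj y w} : Finset V))
          (m := if clsR G x (cls G x z) r.1 then 2 else 0) (fun w hw => ?_)]
        rotate_left
        · have hw' := eq_of_mem hG r (mem_filter.1 hw).1
          rw [far_adj_cls hG hw'.1 hz, hw'.2]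
          congr 1
          exact propext ⟨fun ⟨p, hp, q, hq, hne, hs⟩ => ⟨q, hq, p, hp, hne.symm, by rw [sig_comm]; exact hs⟩,
            fun ⟨p, hp, q, hq, hne, hs⟩ => ⟨q, hq, p, hp, hne.symm, by rw [sig_comm]; exact hs⟩⟩
        · rw [show ({w ∈ r.1 | G.Adj y w} : Finset V) = Γ y ∩ cls G x a by ext w; simp [e, and_comm],
            far_adj_cls hG hy ha, e]
          split_ifs <;> simp_all
      · rw [← sum_filter, sum_const, smul_eq_mul]
        ring
    rw [← h2, ← h1]
    by_cases hyz : y ∈ cls G x z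
    · have hR : ¬ clsR G x (cls G x y) (cls G x z) := by
        rw [← cls_eq hG hz hyz, clsR_iff hG hy hy]; exact fun h => h.1 rfl
      rw [if_neg hR, if_pos hyz, ← add_sum_erase _ _ hyz, inter_self, card_nb hG,
        sum_const_nat (m := 4) (fun a ha => ?_), card_erase_of_mem hyz, card_cls hG hz]
      · obtain ⟨hay, ha⟩ := mem_erase.1 ha
        rw [← cls_eq hG hz hyz] at ha
        exact common_non hG hay.symm (sig_zero_iff.1 ((mem_cls.1 ha).2.resolve_left hay)).1
    · have hpt : ∀ a ∈ cls G x z, #(Γ y ∩ Γ a) + (if G.Adj y a then 1 else 0) * 4 = 4 := by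
        intro a ha
        by_cases h : G.Adj y a
        · simp [h, common_adj hG h]
        · simp [h, common_non hG (show y ≠ a from fun e => hyz (by rw [e]; exact ha)) h]
      have := sum_congr rfl hpt
      rw [sum_add_distrib, ← sum_mul, ← card_filter, sum_const, card_cls hG hz, smul_eq_mul,
        show ({a ∈ cls G x z | G.Adj y a} : Finset V) = Γ y ∩ cls G x z by ext w; simp [and_comm],
        far_adj_cls hG hy hz] at this
      rw [if_neg hyz]
      split_ifs at this ⊢ <;> omega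

omit hG

/-- The co-cliques of 21 vertices. -/
def cocliques (G : SimpleGraph V) [DecidableRel G.Adj] : Finset (Finset V) :=
  {C | #C = 21 ∧ ∀ a ∈ C, ∀ b ∈ C, ¬ G.Adj a b}

theorem mem_cocliques {C : Finset V} : C ∈ cocliques G ↔ #C = 21 ∧ ∀ a ∈ C, ∀ b ∈ C, ¬ G.Adj a b := by
  simp [cocliques]

include hG

theorem coclique_out {C : Finset V} (hC : C ∈ cocliques G) {v : V} (hv : v ∉ C) : #(Γ v ∩ C) = 6 := by
  obtain ⟨hc, hi⟩ := mem_cocliques.1 hC
  have h0 : ∀ a ∈ C, adjOp G (ind C) a = 0 := fun a ha => by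
    rw [adjOp_ind, Nat.cast_eq_zero, card_eq_zero, eq_empty_iff_forall_notMem]
    intro b hb
    exact hi a ha b (mem_inter.1 hb).2 (mem_nb.1 (mem_inter.1 hb).1)
  have hone : ∀ a ∈ C, ind C a = 1 := fun a ha => if_pos ha
  have hff : ∑ a, ind C a * ind C a = 21 := by
    rw [sum_ind_mul, sum_congr rfl hone, sum_const, hc]; rfl
  have hfA : ∑ a, ind C a * adjOp G (ind C) a = 0 := by
    rw [sum_ind_mul, sum_congr rfl h0, sum_const_zero]
  have h1 : ∑ a, adjOp G (ind C) a = 336 := by rw [sum_adjOp hG, sum_ind, hc]; rfl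
  have h2 : ∑ a, adjOp G (ind C) a ^ 2 = 2016 := by
    rw [sum_adjOp_sq hG, hff, hfA, sum_ind, hc]; rfl
  have h3 : ∑ a, (adjOp G (ind C) a - 6) ^ 2 = 756 := by
    have e : ∀ a, (adjOp G (ind C) a - 6) ^ 2 = adjOp G (ind C) a ^ 2 - 12 * adjOp G (ind C) a + 36 :=
      fun a => by ring
    simp only [e, sum_add_distrib, sum_sub_distrib, ← mul_sum, h1, h2, sum_const, card_univ, hG.card]
    rfl
  rw [← sum_sdiff (subset_univ C), sum_congr rfl (fun a (ha : a ∈ C) => show _ = (36 : ℤ) by rw [h0 a ha]; rfl),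
    sum_const, hc] at h3
  have h4 := (sum_eq_zero_iff_of_nonneg (fun a _ => sq_nonneg (adjOp G (ind C) a - 6))).1
    (show ∑ a ∈ univ \ C, (adjOp G (ind C) a - 6) ^ 2 = 0 by simp at h3 ⊢; linarith) v (by simp [hv])
  have h5 := pow_eq_zero_iff two_ne_zero |>.1 h4
  rw [adjOp_ind] at h5
  omega

/-- Through a co-clique at `x`: every class met lies inside, and no two members have relation two. -/
theorem coclique_closed {x : V} {C : Finset V} (hC : C ∈ cocliques G) (hx : x ∈ C) {y : V}
    (hy : y ∈ C.erase x) :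
    y ∈ far G x ∧ cls G x y ⊆ C.erase x ∧ ∀ z ∈ C.erase x, z ≠ y → sig G x y z ≠ 2 := by
  obtain ⟨hc, hi⟩ := mem_cocliques.1 hC
  have hD : ∀ a ∈ C.erase x, a ∈ far G x := fun a ha =>
    mem_far.2 ⟨(mem_erase.1 ha).1, hi x hx a (mem_erase.1 ha).2⟩
  set D := (C.erase x).erase y
  have hD19 : #D = 19 := by rw [card_erase_of_mem hy, card_erase_of_mem hx, hc]
  have hyf := hD y hy
  have hsum : ∑ z ∈ D, iN G x y z = 16 := by
    have hi' : ∀ z, iN G x y z = #{u ∈ blkN G x y | z ∈ Γ u} := by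
      intro z
      rw [iN]
      congr 1
      ext u
      simp only [mem_inter, mem_blkN, mem_filter, mem_nb]
      exact ⟨fun ⟨p, _, q⟩ => ⟨p, q.symm⟩, fun ⟨p, q⟩ => ⟨p, p.1, q.symm⟩⟩
    simp only [hi', card_filter]
    rw [sum_comm, sum_const_nat (m := 4) (fun u hu => ?_), card_blkN hG hyf]
    rw [← card_filter, filter_mem_eq_inter, inter_comm]
    obtain ⟨hux, huy⟩ := mem_blkN.1 hu
    have huC : u ∉ C := fun h => hi x hx u h hux
    have h6 := coclique_out hG hC huC
    have e : Γ u ∩ D = (Γ u ∩ C) \ {x, y} := by ext a; simp [D]; tauto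
    rw [e, card_sdiff_of_subset, h6, card_pair (mem_erase.1 hy).1.symm]
    simp [insert_subset_iff, hux.symm, huy.symm, hx, (mem_erase.1 hy).2]
  have hpt : ∀ z ∈ D, iN G x y z + (if sig G x y z = 0 then 1 else 0) =
      1 + (if sig G x y z = 2 then 1 else 0) := by
    intro z hz
    have hzy := (mem_erase.1 hz).1
    have hadj : ¬ G.Adj y z := hi y (mem_erase.1 hy).2 z (mem_erase.1 (mem_erase.1 hz).2).2
    have := sig_le_two hG hyf (hD z (mem_erase.1 hz).2) hzy.symm
    simp only [sig, hadj, if_false, zero_add] at this ⊢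
    interval_cases iN G x y z <;> rfl
  have hs := sum_congr rfl hpt
  simp only [sum_add_distrib, hsum, ← card_filter, sum_const, hD19, smul_eq_mul] at hs
  have hle : #{z ∈ D | sig G x y z = 0} ≤ 3 := by
    rw [← (sig_counts hG hyf).1]
    exact card_le_card fun z hz => by
      obtain ⟨hz, hz'⟩ := mem_filter.1 hz
      exact mem_filter.2 ⟨mem_erase.2 ⟨(mem_erase.1 hz).1, hD z (mem_erase.1 hz).2⟩, hz'⟩
  refine ⟨hyf, ?_, fun z hz hne h2 => ?_⟩
  · have e : ({z ∈ D | sig G x y z = 0} : Finset V) = {z ∈ (far G x).erase y | sig G x y z = 0} := by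
      refine eq_of_subset_of_card_le (fun z hz => ?_) (by rw [(sig_counts hG hyf).1]; omega)
      obtain ⟨hz, hz'⟩ := mem_filter.1 hz
      exact mem_filter.2 ⟨mem_erase.2 ⟨(mem_erase.1 hz).1, hD z (mem_erase.1 hz).2⟩, hz'⟩
    intro z hz
    by_cases hzy : z = y
    · exact hzy ▸ hy
    obtain ⟨hzf, hz'⟩ := mem_cls.1 hz
    have : z ∈ ({z ∈ D | sig G x y z = 0} : Finset V) :=
      e.symm ▸ mem_filter.2 ⟨mem_erase.2 ⟨hzy, hzf⟩, hz'.resolve_left hzy⟩
    exact (mem_erase.1 (mem_filter.1 this).1).2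
  · have : 0 < #{z ∈ D | sig G x y z = 2} := card_pos.2 ⟨z, mem_filter.2 ⟨mem_erase.2 ⟨hne, hz⟩, h2⟩⟩
    omega

/-- The co-cliques through `x` correspond to the ovoids. -/
theorem coclique_ovoid (x : V) :
    ∃ φ : Finset (Cl G x) → Finset V, Set.InjOn φ (ovoids (fun p q : Cl G x => clsR G x p.1 q.1)) ∧
      (ovoids (fun p q : Cl G x => clsR G x p.1 q.1)).image φ = {C ∈ cocliques G | x ∈ C} ∧
      ∀ S ∈ ovoids (fun p q : Cl G x => clsR G x p.1 q.1), ∀ y (hy : y ∈ far G x),
        y ∈ φ S ↔ toCl y hy ∈ S := by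
  let φ : Finset (Cl G x) → Finset V := fun S => insert x (S.biUnion Subtype.val)
  have hxn : ∀ S : Finset (Cl G x), x ∉ S.biUnion Subtype.val := fun S h => by
    obtain ⟨p, -, hp⟩ := mem_biUnion.1 h
    exact (mem_far.1 (eq_of_mem hG p hp).1).1 rfl
  have hmem : ∀ (S : Finset (Cl G x)) y (hy : y ∈ far G x), y ∈ φ S ↔ toCl y hy ∈ S := by
    intro S y hy
    simp only [φ, mem_insert, mem_biUnion, (mem_far.1 hy).1, false_or]
    refine ⟨fun ⟨p, hp, hyp⟩ => ?_, fun h => ⟨_, h, self_mem_cls hy⟩⟩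
    have : toCl y hy = p := Subtype.ext (eq_of_mem hG p hyp).2
    exact this ▸ hp
  refine ⟨φ, fun S _ T _ e => ?_, ?_, fun S _ => hmem S⟩
  · ext p
    obtain ⟨y, hy, ep⟩ := exists_rep p
    have hp : toCl y hy = p := Subtype.ext ep
    rw [← hp, ← hmem, ← hmem, e]
  ext C
  simp only [mem_image, mem_filter]
  constructor
  · rintro ⟨S, hS, rfl⟩
    obtain ⟨hS5, hSR⟩ := mem_ovoids.1 hS
    refine ⟨mem_cocliques.2 ⟨?_, ?_⟩, mem_insert_self _ _⟩
    · rw [card_insert_of_notMem (hxn S), card_biUnion (fun p _ q _ h => disj_cls hG h),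
        sum_congr rfl (fun p _ => card_cl hG p), sum_const, hS5]
      rfl
    intro a ha b hb hab
    simp only [φ, mem_insert, mem_biUnion] at ha hb
    rcases ha with rfl | ⟨p, hp, hap⟩ <;> rcases hb with rfl | ⟨q, hq, hbq⟩
    · exact hab.ne rfl
    · exact (mem_far.1 (eq_of_mem hG q hbq).1).2 hab
    · exact (mem_far.1 (eq_of_mem hG p hap).1).2 hab.symm
    · refine hSR p hp q hq ⟨a, hap, b, hbq, hab.ne, ?_⟩
      simp [sig, hab, iN_adj hG hab]
  · rintro ⟨hC, hx⟩
    set S : Finset (Cl G x) := {p | p.1 ⊆ C.erase x}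
    have hU : S.biUnion Subtype.val = C.erase x := by
      ext y
      simp only [mem_biUnion, S, mem_filter, mem_univ, true_and]
      refine ⟨fun ⟨p, hp, hyp⟩ => hp hyp, fun hy => ?_⟩
      obtain ⟨hyf, hsub, -⟩ := coclique_closed hG hC hx hy
      exact ⟨toCl y hyf, hsub, self_mem_cls hyf⟩
    refine ⟨S, mem_ovoids.2 ⟨?_, ?_⟩, ?_⟩
    · have h := congrArg Finset.card hU
      rw [card_biUnion (fun p _ q _ h => disj_cls hG h), sum_congr rfl (fun p _ => card_cl hG p), sum_const,
        card_erase_of_mem hx, (mem_cocliques.1 hC).1, smul_eq_mul] at h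
      omega
    · rintro p hp q hq ⟨a, ha, b, hb, hne, hs⟩
      exact (coclique_closed hG hC hx ((mem_filter.1 hp).2 ha)).2.2 b ((mem_filter.1 hq).2 hb) hne.symm hs
    · show insert x (S.biUnion Subtype.val) = C
      rw [hU, insert_erase hx]

theorem card_through (x : V) : #{C ∈ cocliques G | x ∈ C} = 6 := by
  obtain ⟨φ, hinj, him, -⟩ := coclique_ovoid hG x
  rw [← him, card_image_of_injOn hinj]
  exact (quad hG x).card_ovoids

theorem card_through_two {x y : V} (hne : x ≠ y) (ha : ¬ G.Adj x y) :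
    #{C ∈ cocliques G | x ∈ C ∧ y ∈ C} = 2 := by
  have hy : y ∈ far G x := mem_far.2 ⟨hne.symm, ha⟩
  obtain ⟨φ, hinj, him, hmem⟩ := coclique_ovoid hG x
  rw [← filter_filter, ← him, filter_image, card_image_of_injOn (hinj.mono (fun S hS => (mem_filter.1 (mem_coe.1 hS)).1))]
  rw [← (quad hG x).ovoid_point (toCl y hy)]
  congr 1
  exact filter_congr fun S hS => hmem S hS y hy

end CfsgLib.Spor.Srg77
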